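import Cfsg.Agent.H99.SolvGenPSL
import Cfsg.Agent.H948.PSLMax
import Cfsg.Agent.ClassicalGeometry.PSLTorus
import Cfsg.Agent.OddHalf.Small.L2

/-!
# `PSL_2(q)` is generated by an involution and another element (helper648, for S4180)

`q ≥ 4`, `q ≠ 9`; from Dickson's list (S0799).
-/

set_option autoImplicit false

namespace Cfsg.Agent.H648.DG.Psl2

open Matrix Cfsg.Agent.ClassicalGeometry.PSL2Basic Cfsg.Agent.ClassicalGeometry.PSL2Solvable
  Cfsg.Agent.ClassicalGeometry.PSLTorus Cfsg.Agent.H99.SolvGenPSL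
open scoped MatrixGroups

/-! ### element orders in small groups -/

theorem ord_perm4 (x : Equiv.Perm (Fin 4)) : orderOf x ≤ 4 := by
  have h : ∀ x : Equiv.Perm (Fin 4), x ^ 3 = 1 ∨ x ^ 4 = 1 := by decide +kernel
  rcases h x with h | h
  · exact (orderOf_le_of_pow_eq_one (by norm_num) h).trans (by norm_num)
  · exact orderOf_le_of_pow_eq_one (by norm_num) h

theorem ord_alt4 (x : alternatingGroup (Fin 4)) : orderOf x ≤ 4 := by
  rw [← Subgroup.orderOf_coe]
  exact ord_perm4 _

theorem ord_alt5 (x : alternatingGroup (Fin 5)) : orderOf x ≤ 5 := by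
  have h : ∀ x : alternatingGroup (Fin 5), x ^ 2 = 1 ∨ x ^ 3 = 1 ∨ x ^ 5 = 1 := by decide +kernel
  rcases h x with h | h | h
  · exact (orderOf_le_of_pow_eq_one (by norm_num) h).trans (by norm_num)
  · exact (orderOf_le_of_pow_eq_one (by norm_num) h).trans (by norm_num)
  · exact orderOf_le_of_pow_eq_one (by norm_num) h

theorem card_alt5 : Nat.card (alternatingGroup (Fin 5)) = 60 := by
  rw [Nat.card_eq_fintype_card]
  decide +kernel

variable {F : Type*} [Field F] [Fintype F]

/-- divisibility of the order of a subgroup of `PGL_2(K)` or `PSL_2(K)` -/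
theorem card_dvd_of_iso {K : Type*} [Field K] [Fintype K]
    {M : Type*} [Group M]
    (h : Nonempty (M ≃* Matrix.ProjectiveSpecialLinearGroup (Fin 2) K) ∨
        Nonempty (M ≃* Matrix.ProjGenLinGroup (Fin 2) K)) :
    Nat.card M ∣ Fintype.card K * (Fintype.card K ^ 2 - 1) := by
  rcases h with ⟨⟨e⟩⟩ | ⟨⟨e⟩⟩
  · rw [Nat.card_congr e.toEquiv, ← card_PSL2_gcd]
    exact dvd_mul_right _ _
  · rw [Nat.card_congr e.toEquiv, card_PGL2]

theorem not_dvd_two {m n : ℕ} (hm : 2 < m) (h1 : m ∣ n + 1) (h2 : m ∣ n - 1) (hn : 1 ≤ n) : False := by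
  have h3 := Nat.dvd_sub h1 h2
  rw [show n + 1 - (n - 1) = 2 by omega] at h3
  have := Nat.le_of_dvd (by norm_num) h3
  omega

/-- the non-split torus of order `m = (q + 1) / d`, `m ≥ 6` or `q = 4` -/
theorem torus_case {b : Matrix.ProjectiveSpecialLinearGroup (Fin 2) F}
    (hb : orderOf b = (Fintype.card F + 1) / Nat.gcd 2 (Fintype.card F - 1))
    (h6 : 6 ≤ orderOf b ∨ Fintype.card F = 4)
    (M : Subgroup (Matrix.ProjectiveSpecialLinearGroup (Fin 2) F)) (hbM : b ∈ M) :
    M = ⊤ ∨ M ≤ Subgroup.normalizer (Subgroup.zpowers b : Set _) := by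
  have hq : 1 < Fintype.card F := Fintype.one_lt_card
  set q := Fintype.card F with hqdef
  have hd0 : 0 < Nat.gcd 2 (q - 1) := Nat.gcd_pos_of_pos_left _ (by norm_num)
  have hd2 : Nat.gcd 2 (q - 1) ≤ 2 := Nat.gcd_le_left _ (by norm_num)
  have hdq : Nat.gcd 2 (q - 1) ∣ q + 1 := by
    have h1 := Nat.gcd_dvd_right 2 (q - 1)
    have h2 := Nat.gcd_dvd_left 2 (q - 1)
    have h3 := Nat.dvd_add h1 h2
    rwa [show q - 1 + 2 = q + 1 by omega] at h3
  have hmq : orderOf b * Nat.gcd 2 (q - 1) = q + 1 := by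
    rw [hb, Nat.div_mul_cancel hdq]
  set m := orderOf b with hm
  have hmdvd : m ∣ q + 1 := ⟨_, hmq.symm⟩
  have h4 : q = 4 → m = 5 := by
    intro h
    rw [h] at hmq
    norm_num at hmq
    omega
  have hm5 : 5 ≤ m := by
    rcases h6 with h | h
    · omega
    · rw [h4 h]
  have hmc : m.Coprime q := by
    apply Nat.Coprime.coprime_dvd_left hmdvd
    simp
  have hbM' : m ∣ Nat.card M := by
    rw [hm, ← Subgroup.orderOf_mk b hbM]
    exact orderOf_dvd_natCard _
  obtain ⟨p, hchar⟩ := CharP.exists F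
  obtain ⟨n, hp, hn⟩ := FiniteField.card F p
  have hpf : Fact p.Prime := ⟨hp⟩
  rcases Cfsg.Agent.S0799.result (F := F) rfl p M with
    ⟨k, -, ⟨hcyc, -⟩ | ⟨⟨e⟩⟩⟩ | ⟨P, K, hK, ⟨e⟩⟩ | ⟨⟨e⟩⟩ | ⟨⟨e⟩⟩ | ⟨⟨e⟩⟩ |
      ⟨K, hfield, hfin, j, hKm, h⟩
  · right
    apply le_normalizer_zpowers
    intro g hg
    have hc := hcyc.isMulCommutative
    have h1 := hc.is_comm.comm (⟨g, hg⟩ : M) ⟨b, hbM⟩
    have h2 : g * b = b * g := congrArg Subtype.val h1
    rw [h2, mul_inv_cancel_right]
    exact Subgroup.mem_zpowers b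
  · right
    apply le_normalizer_zpowers
    intro g hg
    have h1 : orderOf (e ⟨b, hbM⟩) = orderOf b := by
      rw [MulEquiv.orderOf_eq, Subgroup.orderOf_mk]
    rcases dihedral_conj (e ⟨b, hbM⟩) (e ⟨g, hg⟩) (by omega) with h | h
    · rw [← map_mul, ← map_inv, ← map_mul] at h
      have h2 : g * b * g⁻¹ = b := congrArg Subtype.val (e.injective h)
      rw [h2]
      exact Subgroup.mem_zpowers b
    · rw [← map_mul, ← map_inv, ← map_mul, ← map_inv] at h
      have h2 : g * b * g⁻¹ = b⁻¹ := congrArg Subtype.val (e.injective h)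
      rw [h2]
      exact (Subgroup.zpowers b).inv_mem (Subgroup.mem_zpowers b)
  · exfalso
    obtain ⟨g, hg⟩ := exists_le_map_borel p P
    have h1 : Nat.card K ∣ q * (q - 1) := by
      refine (Subgroup.card_dvd_of_le (hK.trans hg)).trans ?_
      refine (Subgroup.card_map_dvd _ _).trans ?_
      refine (Subgroup.card_map_dvd _ _).trans ?_
      rw [card_borel, mul_comm]
    rw [Nat.card_congr e.toEquiv] at hbM'
    exact not_dvd_two (by omega) hmdvd (hmc.dvd_of_dvd_mul_left (hbM'.trans h1)) hq.le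
  · exfalso
    have h1 := ord_alt4 (e ⟨b, hbM⟩)
    rw [MulEquiv.orderOf_eq, Subgroup.orderOf_mk] at h1
    omega
  · exfalso
    have h1 := ord_perm4 (e ⟨b, hbM⟩)
    rw [MulEquiv.orderOf_eq, Subgroup.orderOf_mk] at h1
    omega
  · have h1 := ord_alt5 (e ⟨b, hbM⟩)
    rw [MulEquiv.orderOf_eq, Subgroup.orderOf_mk] at h1
    have hq4 : q = 4 := by
      rcases h6 with h | h
      · omega
      · exact h
    left
    apply Subgroup.eq_top_of_card_eq
    rw [Nat.card_congr e.toEquiv, card_alt5, card_PSL2_div, ← hqdef, hq4]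
    norm_num
  · by_cases hKq : Fintype.card K = q
    · left
      exact Cfsg.Agent.H948.PSLMax.eq_top_of_card_eq M hKq h
    · exfalso
      have hk1 : 1 < Fintype.card K := Fintype.one_lt_card
      set k := Fintype.card K with hk
      have hj1 : j ≠ 1 := by
        rintro rfl
        rw [pow_one] at hKm
        exact hKq hKm
      have hj0 : j ≠ 0 := by
        rintro rfl
        rw [pow_zero] at hKm
        omega
      have h1 : m ∣ k * (k ^ 2 - 1) := hbM'.trans (card_dvd_of_iso h)
      have h2 : m.Coprime k := by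
        apply hmc.coprime_dvd_right
        rw [hqdef, ← hKm]
        exact dvd_pow_self k hj0
      have h3 : m ∣ k ^ 2 - 1 := h2.dvd_of_dvd_mul_left h1
      rcases Nat.even_or_odd' j with ⟨i, hi | hi⟩
      · have h4 : k ^ 2 - 1 ∣ q - 1 := by
          rw [hqdef, ← hKm, hi, pow_mul]
          simpa using Nat.sub_dvd_pow_sub_pow (k ^ 2) 1 i
        exact not_dvd_two (by omega) hmdvd (h3.trans h4) hq.le
      · have h4 : k ^ 3 ≤ q := by
          rw [hqdef, ← hKm]
          exact Nat.pow_le_pow_right (by omega) (by omega)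
        have hkk : 1 ≤ k ^ 2 := Nat.one_le_pow _ _ (by omega)
        have h5 : m ≤ k ^ 2 - 1 := Nat.le_of_dvd (by
          have : 2 ^ 2 ≤ k ^ 2 := Nat.pow_le_pow_left hk1 2
          omega) h3
        have h6 : q + 1 ≤ m * 2 := by
          rw [← hmq]
          exact Nat.mul_le_mul le_rfl hd2
        obtain ⟨x, hx⟩ : ∃ x, k = x + 2 := ⟨k - 2, by omega⟩
        have h7 : k ^ 3 + 1 + 2 ≤ k ^ 2 * 2 := by omega
        rw [hx] at h7
        nlinarith [h7]

/-- the unipotent elements, `q = p ≥ 5` -/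
theorem unip_case {p : ℕ} [Fact p.Prime] [CharP F p] (hq : Fintype.card F = p) (h5 : 5 ≤ p)
    {b : Matrix.ProjectiveSpecialLinearGroup (Fin 2) F} (hb : orderOf b = p)
    (M : Subgroup (Matrix.ProjectiveSpecialLinearGroup (Fin 2) F)) (hbM : b ∈ M) :
    M = ⊤ ∨ M ≤ Subgroup.normalizer (Subgroup.zpowers b : Set _) := by
  have hp : p.Prime := Fact.out
  have hbM' : p ∣ Nat.card M := by
    rw [← hb, ← Subgroup.orderOf_mk b hbM]
    exact orderOf_dvd_natCard _
  have hd0 : 0 < Nat.gcd 2 (p - 1) := Nat.gcd_pos_of_pos_left _ (by norm_num)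
  have hodd : Odd p := hp.odd_of_ne_two (by omega)
  have hgcd : Nat.gcd 2 (p - 1) = 2 := by
    apply Nat.gcd_eq_left
    obtain ⟨r, hr⟩ := hodd
    exact ⟨r, by omega⟩
  have hkey : ∀ k : ℕ, (k ∣ (p + 1) / Nat.gcd 2 (p - 1) ∨ k ∣ (p - 1) / Nat.gcd 2 (p - 1)) → ¬ p ∣ k := by
    intro k hk hpk
    rw [hgcd] at hk
    rcases hk with hk | hk
    · have := Nat.le_of_dvd (by omega) (hpk.trans hk)
      omega
    · have := Nat.le_of_dvd (by omega) (hpk.trans hk)
      omega
  rcases Cfsg.Agent.S0799.result (F := F) hq p M with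
    ⟨k, hk, ⟨hcyc, hck⟩ | ⟨⟨e⟩⟩⟩ | ⟨P, K, hK, ⟨e⟩⟩ | ⟨⟨e⟩⟩ | ⟨⟨e⟩⟩ | ⟨⟨e⟩⟩ |
      ⟨K, hfield, hfin, j, hKm, h⟩
  · exfalso
    rw [hck] at hbM'
    exact hkey k hk hbM'
  · exfalso
    rw [Nat.card_congr e.toEquiv, DihedralGroup.nat_card] at hbM'
    rcases (Nat.Prime.dvd_mul hp).1 hbM' with h | h
    · have := Nat.le_of_dvd (by norm_num) h
      omega
    · exact hkey k hk h
  · right
    obtain ⟨g, hg⟩ := exists_le_map_borel p P
    have h1 : Nat.card M ∣ p * (p - 1) := by
      rw [Nat.card_congr e.toEquiv]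
      refine (Subgroup.card_dvd_of_le (hK.trans hg)).trans ?_
      refine (Subgroup.card_map_dvd _ _).trans ?_
      refine (Subgroup.card_map_dvd _ _).trans ?_
      rw [card_borel, hq, mul_comm]
    -- the Sylow `p`-subgroup of `M`
    have hPG : IsPGroup p (Subgroup.zpowers (⟨b, hbM⟩ : M)) := by
      apply IsPGroup.of_card (n := 1)
      rw [Nat.card_zpowers, Subgroup.orderOf_mk, hb, pow_one]
    obtain ⟨S, hS⟩ := hPG.exists_le_sylow
    obtain ⟨c, hc⟩ := hbM'
    have hp0 : 0 < p := hp.pos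
    have hcd : c ∣ p - 1 := by
      rw [hc] at h1
      exact Nat.dvd_of_mul_dvd_mul_left hp0 h1
    have hcp : ¬ p ∣ c := by
      intro h
      have := Nat.le_of_dvd (by omega) (h.trans hcd)
      omega
    have hcS : Nat.card S = p := by
      rw [S.card_eq_multiplicity, hc]
      have hc0 : c ≠ 0 := by rintro rfl; simp at hcp
      rw [Nat.factorization_mul hp0.ne' hc0, Finsupp.add_apply, hp.factorization_self,
        Nat.factorization_eq_zero_of_not_dvd hcp, pow_one]
    have hidx : (S : Subgroup M).index = c := by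
      have h2 := (S : Subgroup M).card_mul_index
      rw [hcS, hc] at h2
      exact Nat.eq_of_mul_eq_mul_left hp0 h2
    have hn1 : Nat.card (Sylow p M) ≡ 1 [MOD p] := card_sylow_modEq_one p M
    have hn2 : Nat.card (Sylow p M) ∣ p - 1 := by
      have := S.card_dvd_index
      rw [hidx] at this
      exact this.trans hcd
    have hn3 : Nat.card (Sylow p M) = 1 := by
      have h2 := Nat.le_of_dvd (by omega) hn2
      have h3 : Nat.card (Sylow p M) % p = 1 % p := hn1
      rw [Nat.mod_eq_of_lt (by omega), Nat.mod_eq_of_lt (by omega)] at h3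
      exact h3
    have hSn : (S : Subgroup M).Normal := by
      have hsub : Subsingleton (Sylow p M) := (Nat.card_eq_one_iff_unique.1 hn3).1
      exact Sylow.normal_of_subsingleton S
    have hSz : (S : Subgroup M) = Subgroup.zpowers (⟨b, hbM⟩ : M) := by
      symm
      apply Subgroup.eq_of_le_of_card_ge hS
      rw [Nat.card_zpowers, Subgroup.orderOf_mk, hb]
      exact hcS.le
    apply le_normalizer_zpowers
    intro x hx
    have h2 := hSn.conj_mem ⟨b, hbM⟩ (by rw [hSz]; exact Subgroup.mem_zpowers _) ⟨x, hx⟩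
    rw [hSz] at h2
    obtain ⟨i, hi⟩ := Subgroup.mem_zpowers_iff.1 h2
    refine Subgroup.mem_zpowers_iff.2 ⟨i, ?_⟩
    exact congrArg Subtype.val hi
  · exfalso
    have h1 : Nat.card (alternatingGroup (Fin 4)) = 12 := by
      rw [Nat.card_eq_fintype_card]
      decide +kernel
    rw [Nat.card_congr e.toEquiv, h1, show 12 = 2 ^ 2 * 3 by norm_num] at hbM'
    rcases (Nat.Prime.dvd_mul hp).1 hbM' with h | h
    · have := Nat.le_of_dvd (by norm_num) (hp.dvd_of_dvd_pow h)
      omega
    · have := Nat.le_of_dvd (by norm_num) h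
      omega
  · exfalso
    rw [Nat.card_congr e.toEquiv, Nat.card_eq_fintype_card, Fintype.card_perm,
      Fintype.card_fin, show Nat.factorial 4 = 2 ^ 3 * 3 by decide] at hbM'
    rcases (Nat.Prime.dvd_mul hp).1 hbM' with h | h
    · have := Nat.le_of_dvd (by norm_num) (hp.dvd_of_dvd_pow h)
      omega
    · have := Nat.le_of_dvd (by norm_num) h
      omega
  · left
    have h1 := ord_alt5 (e ⟨b, hbM⟩)
    rw [MulEquiv.orderOf_eq, Subgroup.orderOf_mk, hb] at h1
    have h5' : p = 5 := by omega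
    apply Subgroup.eq_top_of_card_eq
    rw [Nat.card_congr e.toEquiv, card_alt5, card_PSL2_div, hq, h5']
    norm_num
  · left
    refine Cfsg.Agent.H948.PSLMax.eq_top_of_card_eq M ?_ h
    rw [hq]
    have h1 : Fintype.card K ∣ p := by
      rw [← hKm]
      apply dvd_pow_self
      rintro rfl
      rw [pow_zero] at hKm
      omega
    rcases (Nat.dvd_prime hp).1 h1 with h2 | h2
    · exact absurd h2 (Fintype.one_lt_card).ne'
    · exact h2

/-- an involution which does not normalise `⟨b⟩` -/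
theorem exists_inv_of {G : Type*} [Group G] [Finite G] [IsSimpleGroup G] (hna : ¬ IsMulCommutative G)
    (he : Even (Nat.card G)) {b : G} (hb : b ≠ 1)
    (h : ∀ M : Subgroup G, b ∈ M → M = ⊤ ∨ M ≤ Subgroup.normalizer (Subgroup.zpowers b : Set G)) :
    ∃ c : G, c ^ 2 = 1 ∧ c ≠ 1 ∧ Subgroup.closure ({c, b} : Set G) = ⊤ := by
  have hN := normalizer_ne_top inferInstance hna hb
  obtain ⟨t, ht⟩ : ∃ t : G, orderOf t = 2 := by
    have : Fact (Nat.Prime 2) := ⟨Nat.prime_two⟩
    exact exists_prime_orderOf_dvd_card' 2 he.two_dvd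
  have hI : ∃ c : G, c ^ 2 = 1 ∧ c ∉ Subgroup.normalizer (Subgroup.zpowers b : Set G) := by
    by_contra hcon
    push Not at hcon
    apply hN
    have hn : (Subgroup.closure {c : G | c ^ 2 = 1}).Normal := by
      refine ⟨fun n hn g => ?_⟩
      induction hn using Subgroup.closure_induction with
      | mem x hx =>
        apply Subgroup.subset_closure
        show (g * x * g⁻¹) ^ 2 = 1
        have hx' : x ^ 2 = 1 := hx
        rw [conj_pow, hx', mul_one, mul_inv_cancel]
      | one => rw [mul_one, mul_inv_cancel]; exact one_mem _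
      | mul x y _ _ ihx ihy =>
        have : g * (x * y) * g⁻¹ = (g * x * g⁻¹) * (g * y * g⁻¹) := by group
        rw [this]
        exact mul_mem ihx ihy
      | inv x _ ih =>
        have : g * x⁻¹ * g⁻¹ = (g * x * g⁻¹)⁻¹ := by group
        rw [this]
        exact inv_mem ih
    have ht2 : t ^ 2 = 1 := by rw [← ht]; exact pow_orderOf_eq_one t
    rcases hn.eq_bot_or_eq_top with h1 | h1
    · exfalso
      have h2 : t ∈ Subgroup.closure {c : G | c ^ 2 = 1} := Subgroup.subset_closure ht2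
      rw [h1, Subgroup.mem_bot] at h2
      rw [h2, orderOf_one] at ht
      norm_num at ht
    · rw [eq_top_iff, ← h1, Subgroup.closure_le]
      intro c hc
      exact hcon c hc
  obtain ⟨c, hc2, hcN⟩ := hI
  refine ⟨c, hc2, ?_, ?_⟩
  · rintro rfl
    exact hcN (one_mem _)
  · rcases h (Subgroup.closure {c, b}) (Subgroup.subset_closure (Set.mem_insert_of_mem _ rfl)) with h1 | h1
    · exact h1
    · exact absurd (h1 (Subgroup.subset_closure (Set.mem_insert c {b}))) hcN

variable (F) in
theorem exists_inv [IsSimpleGroup (Matrix.ProjectiveSpecialLinearGroup (Fin 2) F)]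
    (hna : ¬ IsMulCommutative (Matrix.ProjectiveSpecialLinearGroup (Fin 2) F))
    (h4 : 4 ≤ Fintype.card F) (h9 : Fintype.card F ≠ 9) :
    ∃ c b : Matrix.ProjectiveSpecialLinearGroup (Fin 2) F, c ^ 2 = 1 ∧ c ≠ 1 ∧
      Subgroup.closure ({c, b} : Set _) = ⊤ := by
  obtain ⟨p, hchar⟩ := CharP.exists F
  obtain ⟨n, hp, hn⟩ := FiniteField.card F p
  have hpf : Fact p.Prime := ⟨hp⟩
  suffices h : ∃ b : Matrix.ProjectiveSpecialLinearGroup (Fin 2) F, b ≠ 1 ∧
      ∀ M : Subgroup (Matrix.ProjectiveSpecialLinearGroup (Fin 2) F), b ∈ M →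
        M = ⊤ ∨ M ≤ Subgroup.normalizer (Subgroup.zpowers b : Set _) by
    obtain ⟨b, hb1, hb⟩ := h
    obtain ⟨c, h1, h2, h3⟩ := exists_inv_of hna Cfsg.Agent.OddHalf.Small.L2.even_card_psl2 hb1 hb
    exact ⟨c, b, h1, h2, h3⟩
  by_cases h57 : Fintype.card F = 5 ∨ Fintype.card F = 7
  · -- unipotent
    have hqp : Fintype.card F = p := by
      have h1 : p ∣ Fintype.card F := by rw [hn]; exact dvd_pow_self _ n.2.ne'
      rcases h57 with h | h
      · rw [h] at h1 ⊢
        rcases (Nat.dvd_prime (by norm_num)).1 h1 with h2 | h2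
        · exact absurd h2 hp.one_lt.ne'
        · exact h2.symm
      · rw [h] at h1 ⊢
        rcases (Nat.dvd_prime (by norm_num)).1 h1 with h2 | h2
        · exact absurd h2 hp.one_lt.ne'
        · exact h2.symm
    obtain ⟨b, hb⟩ : ∃ b : Matrix.ProjectiveSpecialLinearGroup (Fin 2) F, orderOf b = p := by
      apply exists_prime_orderOf_dvd_card' p
      have hd : Nat.gcd 2 (Fintype.card F - 1) = 2 := by
        rcases h57 with h | h <;> rw [h] <;> norm_num
      have h1 := card_PSL2_gcd (F := F)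
      rw [hd] at h1
      have h2 : p ∣ Nat.card (Matrix.ProjectiveSpecialLinearGroup (Fin 2) F) * 2 := by
        rw [h1, hqp]
        exact dvd_mul_right _ _
      rcases (Nat.Prime.dvd_mul hp).1 h2 with h3 | h3
      · exact h3
      · have := Nat.le_of_dvd (by norm_num) h3
        omega
    refine ⟨b, ?_, fun M hM => unip_case hqp (by omega) hb M hM⟩
    rintro rfl
    rw [orderOf_one] at hb
    exact hp.one_lt.ne hb
  · push Not at h57
    obtain ⟨a, -, ha, -, -, hneg, -⟩ := Cfsg.Agent.ClassicalGeometry.NonsplitTorus.exists_torus_TI F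
    have hb := orderOf_pr a ha hneg
    have h6 : 6 ≤ orderOf (pr F a) ∨ Fintype.card F = 4 := by
      rw [hb]
      rcases Nat.even_or_odd (Fintype.card F) with hev | hod
      · by_cases h : Fintype.card F = 4
        · exact Or.inr h
        · left
          have hg : Nat.gcd 2 (Fintype.card F - 1) = 1 := by
            rw [← Nat.coprime_iff_gcd_eq_one, Nat.coprime_two_left]
            obtain ⟨r, hr⟩ := hev
            exact ⟨r - 1, by omega⟩
          rw [hg, Nat.div_one]
          obtain ⟨r, hr⟩ := hev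
          omega
      · left
        have hg : Nat.gcd 2 (Fintype.card F - 1) = 2 := by
          apply Nat.gcd_eq_left
          obtain ⟨r, hr⟩ := hod
          exact ⟨r, by omega⟩
        rw [hg]
        obtain ⟨r, hr⟩ := hod
        omega
    refine ⟨pr F a, ?_, fun M hM => torus_case hb h6 M hM⟩
    intro h
    rw [h, orderOf_one] at hb
    rcases h6 with h' | h'
    · rw [h, orderOf_one] at h'
      omega
    · rw [h'] at hb
      norm_num at hb

end Cfsg.Agent.H648.DG.Psl2
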